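import Mathlib
import Cfsg.Prelude.Def_Transfer
import Cfsg.Prelude.Def_KGroupFacts
import Cfsg.Agent.Lib.Core.Nilpotent

/-!
A small invariant subgroup detecting the automorphisms of order prime to `p`.
-/

set_option autoImplicit false

namespace Cfsg.Agent.Lib.CriticalAut

open Subgroup
open scoped commutatorElement

variable {P : Type*} [Group P] {p : ℕ}

theorem mul_pow_of_central {x y k : P} (hk : k * x = x * k) (hk' : k * y = y * k)
    (h : y * x = k * x * y) (n : ℕ) : (x * y) ^ n = x ^ n * y ^ n * k ^ n.choose 2 := by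
  have hyn : ∀ n : ℕ, y ^ n * x = k ^ n * (x * y ^ n) := by
    intro n
    induction n with
    | zero => simp
    | succ n ih =>
      calc y ^ (n + 1) * x = y ^ n * (y * x) := by rw [pow_succ, mul_assoc]
        _ = (y ^ n * k) * (x * y) := by rw [h]; group
        _ = k * ((y ^ n * x) * y) := by
            rw [((Commute.pow_left (show Commute y k from hk'.symm) n)).eq]; group
        _ = k ^ (n + 1) * (x * y ^ (n + 1)) := by rw [ih, pow_succ' k, pow_succ y]; group
  induction n with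
  | zero => simp
  | succ n ih =>
    have hc : Commute (k ^ n.choose 2) (x * y) :=
      (Commute.mul_right (show Commute k x from hk) hk').pow_left _
    have hkn : Commute (k ^ n) (x * y ^ n) :=
      (Commute.mul_right (show Commute k x from hk) ((show Commute k y from hk').pow_right n)).pow_left n
    have hky : Commute (k ^ n) y := (show Commute k y from hk').pow_left n
    calc (x * y) ^ (n + 1) = x ^ n * y ^ n * (k ^ n.choose 2 * (x * y)) := by
          rw [pow_succ, ih, mul_assoc]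
      _ = x ^ n * ((y ^ n * x) * y * k ^ n.choose 2) := by rw [hc.eq]; group
      _ = x ^ n * (x * y ^ n * (k ^ n * y) * k ^ n.choose 2) := by rw [hyn, hkn.eq]; group
      _ = x ^ n * (x * y ^ n * (y * k ^ n) * k ^ n.choose 2) := by rw [hky.eq]
      _ = x ^ (n + 1) * y ^ (n + 1) * k ^ (n + 1).choose 2 := by
          rw [Nat.choose_succ_succ n 1, Nat.choose_one_right, pow_add k, pow_succ x, pow_succ y]
          group

theorem eq_one_of_pow_coprime [Fact p.Prime] (hP : IsPGroup p P) {y : P} {n : ℕ}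
    (hn : n.Coprime p) (h : y ^ n = 1) : y = 1 := by
  obtain ⟨k, hk⟩ := hP y
  have h1 := Nat.dvd_gcd (orderOf_dvd_of_pow_eq_one h) (orderOf_dvd_of_pow_eq_one hk)
  rw [Nat.Coprime.gcd_eq_one (hn.pow_right k), Nat.dvd_one] at h1
  exact orderOf_eq_one_iff.mp h1

/-- `x ↦ x y`, `y ↦ y` has order prime to `p` only for `y = 1`. -/
theorem fix_of_coprime [Fact p.Prime] (hP : IsPGroup p P) {α : MulAut P}
    (hα : (orderOf α).Coprime p) {x y : P} (hx : α x = x * y) (hy : α y = y) : y = 1 := by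
  refine eq_one_of_pow_coprime hP hα ?_
  have hn : ∀ n : ℕ, (α ^ n) x = x * y ^ n := by
    intro n
    induction n with
    | zero => simp
    | succ n ih => rw [pow_succ', MulAut.mul_apply, ih, map_mul, map_pow, hx, hy, pow_succ', mul_assoc]
  have h := hn (orderOf α)
  rwa [pow_orderOf_eq_one, MulAut.one_apply, eq_comm, mul_eq_left] at h

/-- The subgroup generated by the displacements of the automorphisms in `O^p(G)`. -/
def displacement (p : ℕ) (G : Subgroup (MulAut P)) : Subgroup P :=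
  closure {y : P | ∃ α ∈ Cfsg.pResidual p ↥G, ∃ x : P, y = x⁻¹ * (α : MulAut P) x}

theorem displacement_invariant (G : Subgroup (MulAut P)) {β : MulAut P} (hβ : β ∈ G) {w : P}
    (hw : w ∈ displacement p G) : β w ∈ displacement p G := by
  refine (show (displacement p G).map β.toMonoidHom ≤ displacement p G from ?_) ⟨w, hw, rfl⟩
  rw [displacement, MonoidHom.map_closure, closure_le]
  rintro _ ⟨y, ⟨α, hα, x, rfl⟩, rfl⟩
  refine subset_closure ⟨⟨β, hβ⟩ * α * (⟨β, hβ⟩ : G)⁻¹, ?_, β x, ?_⟩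
  · have hconj : (Cfsg.pResidual p ↥G).map (MulAut.conj (⟨β, hβ⟩ : G)).toMonoidHom ≤
        Cfsg.pResidual p ↥G := by
      rw [Cfsg.pResidual, MonoidHom.map_closure, closure_le]
      rintro _ ⟨γ, hγ, rfl⟩
      refine subset_closure ?_
      exact Nat.Coprime.coprime_dvd_left (orderOf_map_dvd _ γ) hγ
    exact hconj ⟨α, hα, rfl⟩
  · simp

theorem coprime_mem_pResidual (G : Subgroup (MulAut P)) {α : MulAut P} (hα : α ∈ G)
    (hco : (orderOf α).Coprime p) : (⟨α, hα⟩ : G) ∈ Cfsg.pResidual p ↥G :=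
  subset_closure (show (orderOf (⟨α, hα⟩ : G)).Coprime p by rwa [Subgroup.orderOf_mk])

/-- Invariant, in the displacement, and of class at most two relative to `P`. -/
structure IsSmall (p : ℕ) (G : Subgroup (MulAut P)) (C : Subgroup P) : Prop where
  le : C ≤ displacement p G
  inv : ∀ α ∈ G, ∀ c ∈ C, α c ∈ C
  comm : ∀ c ∈ C, ∀ x : P, ⁅c, x⁆ ∈ C ⊓ centralizer (C : Set P)
  pow : ∀ c ∈ C, c ^ p ∈ centralizer (C : Set P)

section Finite

variable [Finite P] [Fact p.Prime]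

theorem conj_mem_of_inn {G : Subgroup (MulAut P)} (hG : Cfsg.Inn P ≤ G) {N : Subgroup P}
    (hN : ∀ α ∈ G, ∀ c ∈ N, α c ∈ N) {x c : P} (hc : c ∈ N) : x * c * x⁻¹ ∈ N :=
  hN _ (hG ⟨x, rfl⟩) c hc

omit [Fact p.Prime] in
theorem invariant_centralizer {G : Subgroup (MulAut P)} {C : Subgroup P}
    (hC : ∀ α ∈ G, ∀ c ∈ C, α c ∈ C) {α : MulAut P} (hα : α ∈ G) {k : P}
    (hk : k ∈ centralizer (C : Set P)) : α k ∈ centralizer (C : Set P) := by
  refine mem_centralizer_iff.mpr fun c hc => ?_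
  have h := congrArg α (mem_centralizer_iff.mp hk (α⁻¹ c) (hC _ (G.inv_mem hα) c hc))
  simpa using h

/-- A small subgroup containing its centraliser in the displacement. -/
theorem exists_small (hP : IsPGroup p P) (G : Subgroup (MulAut P)) (hG : Cfsg.Inn P ≤ G) :
    ∃ C : Subgroup P, IsSmall p G C ∧ displacement p G ⊓ centralizer (C : Set P) ≤ C := by
  have hbot : IsSmall p G ⊥ := by
    refine ⟨bot_le, fun α _ c hc => ?_, fun c hc x => ?_, fun c hc => ?_⟩
    · rw [mem_bot.mp hc, map_one]; exact one_mem _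
    · rw [mem_bot.mp hc, commutatorElement_one_left]; exact one_mem _
    · rw [mem_bot.mp hc, one_pow]; exact one_mem _
  obtain ⟨C, hC, hmax⟩ := Set.exists_max_image {C : Subgroup P | IsSmall p G C}
    (fun C : Subgroup P => Nat.card C) (Set.toFinite _) ⟨⊥, hbot⟩
  refine ⟨C, hC, ?_⟩
  by_contra hle
  obtain ⟨Z, hZ⟩ : ∃ Z, Z = C ⊓ centralizer (C : Set P) := ⟨_, rfl⟩
  obtain ⟨K, hK⟩ : ∃ K, K = displacement p G ⊓ centralizer (C : Set P) := ⟨_, rfl⟩
  rw [← hK] at hle
  have hZinv : ∀ α ∈ G, ∀ c ∈ Z, α c ∈ Z := by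
    intro α hα c hc
    rw [hZ] at hc ⊢
    exact mem_inf.mpr ⟨hC.inv α hα c (mem_inf.mp hc).1,
      invariant_centralizer hC.inv hα (mem_inf.mp hc).2⟩
  have hKinv : ∀ α ∈ G, ∀ c ∈ K, α c ∈ K := by
    intro α hα c hc
    rw [hK] at hc ⊢
    exact mem_inf.mpr ⟨displacement_invariant G hα (mem_inf.mp hc).1,
      invariant_centralizer hC.inv hα (mem_inf.mp hc).2⟩
  have hZK : Z ≤ K := by rw [hZ, hK]; exact inf_le_inf_right _ hC.le
  haveI hZn : Z.Normal := ⟨fun c hc x => conj_mem_of_inn hG hZinv hc⟩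
  haveI hKn : K.Normal := ⟨fun c hc x => conj_mem_of_inn hG hKinv hc⟩
  obtain ⟨q, hqdef⟩ : ∃ q, q = QuotientGroup.mk' Z := ⟨_, rfl⟩
  have hqs : Function.Surjective q := hqdef ▸ QuotientGroup.mk'_surjective _
  have hq1 : ∀ {y : P}, q y = 1 ↔ y ∈ Z := fun {y} => by
    rw [hqdef]; exact QuotientGroup.eq_one_iff y
  let E : Subgroup (P ⧸ Z) :=
    { carrier := {y | y ∈ Subgroup.center (P ⧸ Z) ∧ y ^ p = 1}
      one_mem' := ⟨one_mem _, one_pow _⟩
      mul_mem' := fun {a b} ha hb => ⟨mul_mem ha.1 hb.1, by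
        rw [(show Commute a b from (mem_center_iff.mp hb.1 a)).mul_pow, ha.2, hb.2, one_mul]⟩
      inv_mem' := fun {a} ha => ⟨inv_mem ha.1, by rw [inv_pow, ha.2, inv_one]⟩ }
  have hE : ∀ {y : P}, y ∈ E.comap q ↔ (∀ x, ⁅y, x⁆ ∈ Z) ∧ y ^ p ∈ Z := by
    intro y
    rw [mem_comap]
    show q y ∈ Subgroup.center _ ∧ q y ^ p = 1 ↔ _
    rw [← map_pow, hq1, mem_center_iff, hqs.forall]
    refine and_congr_left' (forall_congr' fun x => ?_)
    rw [← hq1, map_commutatorElement, commutatorElement_eq_one_iff_mul_comm, eq_comm]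
  have hEinv : ∀ α ∈ G, ∀ c ∈ E.comap q, α c ∈ E.comap q := by
    intro α hα c hc
    rw [hE] at hc ⊢
    refine ⟨fun x => ?_, ?_⟩
    · have h := hZinv α hα _ (hc.1 (α⁻¹ x))
      rwa [map_commutatorElement, show α (α⁻¹ x) = x by simp] at h
    · rw [← map_pow]
      exact hZinv α hα _ hc.2
  have hCE : C ≤ E.comap q := fun c hc => hE.mpr ⟨fun x => hZ ▸ hC.comm c hc x,
    hZ ▸ mem_inf.mpr ⟨C.pow_mem hc p, hC.pow c hc⟩⟩
  obtain ⟨X, hX⟩ : ∃ X, X = C ⊔ (K ⊓ E.comap q) := ⟨_, rfl⟩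
  have hXE : X ≤ E.comap q := hX ▸ sup_le hCE inf_le_right
  have hZX : Z ≤ X ⊓ centralizer (X : Set P) := by
    have hZC : Z ≤ C ∧ Z ≤ centralizer (C : Set P) := by
      rw [hZ]; exact ⟨inf_le_left, inf_le_right⟩
    refine le_inf (hZC.1.trans (hX ▸ le_sup_left)) ?_
    rw [le_centralizer_iff, hX, sup_le_iff]
    refine ⟨le_centralizer_iff.mp hZC.2, le_centralizer_iff.mp ?_⟩
    refine hZC.1.trans (le_centralizer_iff.mp (inf_le_left.trans ?_))
    rw [hK]
    exact inf_le_right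
  have hXsmall : IsSmall p G X := by
    refine ⟨hX ▸ sup_le hC.le (inf_le_left.trans (hK ▸ inf_le_left)), fun α hα c hc => ?_,
      fun c hc x => hZX ((hE.mp (hXE hc)).1 x), fun c hc => (hZX (hE.mp (hXE hc)).2).2⟩
    refine (show X.map α.toMonoidHom ≤ X from ?_) ⟨c, hc, rfl⟩
    rw [hX, Subgroup.map_sup]
    refine sup_le_sup ?_ ?_
    · rintro _ ⟨y, hy, rfl⟩; exact hC.inv α hα y hy
    · rintro _ ⟨y, hy, rfl⟩; exact ⟨hKinv α hα y hy.1, hEinv α hα y hy.2⟩
  have hXC : C = X := Subgroup.eq_of_le_of_card_ge (hX ▸ le_sup_left) (hmax X hXsmall)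
  have hne : K.map q ≠ ⊥ := fun he => hle fun k hk => by
    have : q k ∈ (⊥ : Subgroup _) := he ▸ mem_map_of_mem q hk
    have hkZ := hq1.mp (mem_bot.mp this)
    rw [hZ] at hkZ
    exact hkZ.1
  haveI : (K.map q).Normal := hKn.map q hqs
  haveI : Group.IsNilpotent (P ⧸ Z) := (hP.to_quotient Z).isNilpotent
  have hne' := Nilp.inf_center_ne_bot_of_normal hne
  obtain ⟨⟨y, hy⟩, hy1⟩ : ∃ y : (K.map q ⊓ Subgroup.center (P ⧸ Z) : Subgroup (P ⧸ Z)),
      orderOf y = p := by
    have hp : IsPGroup p (K.map q ⊓ Subgroup.center (P ⧸ Z) : Subgroup (P ⧸ Z)) :=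
      (hP.to_quotient Z).to_subgroup _
    obtain ⟨n, hn⟩ := IsPGroup.iff_card.mp hp
    refine exists_prime_orderOf_dvd_card' p ?_
    rw [hn]
    refine dvd_pow_self p fun h0 => hne' ?_
    rw [h0, pow_zero] at hn
    exact Subgroup.card_eq_one.mp hn
  rw [Subgroup.orderOf_mk] at hy1
  obtain ⟨x, hx, rfl⟩ := (mem_inf.mp hy).1
  have hxE : x ∈ E.comap q := ⟨(mem_inf.mp hy).2, by rw [← hy1]; exact pow_orderOf_eq_one _⟩
  have hxC : x ∈ C := hXC ▸ hX ▸ mem_sup_right (mem_inf.mpr ⟨hx, hxE⟩)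
  have hxZ : x ∈ Z := by
    rw [hK] at hx
    rw [hZ]
    exact mem_inf.mpr ⟨hxC, (mem_inf.mp hx).2⟩
  rw [hq1.mpr hxZ, orderOf_one] at hy1
  exact (Fact.out : p.Prime).one_lt.ne hy1

/-- An automorphism of order prime to `p` fixing a small self-centralising subgroup is trivial. -/
theorem eq_one_of_fix (hP : IsPGroup p P) {G : Subgroup (MulAut P)} (hG : Cfsg.Inn P ≤ G)
    {C : Subgroup P} (hC : IsSmall p G C)
    (hCW : displacement p G ⊓ centralizer (C : Set P) ≤ C) {α : MulAut P} (hα : α ∈ G)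
    (hco : (orderOf α).Coprime p) (hfix : ∀ c ∈ C, α c = c) : α = 1 := by
  have hW : ∀ w ∈ displacement p G, α w = w := by
    intro w hw
    have hy : w⁻¹ * α w ∈ C := by
      refine hCW (mem_inf.mpr ⟨mul_mem (inv_mem hw) (displacement_invariant G hα hw),
        mem_centralizer_iff.mpr fun c hc => ?_⟩)
      have hc' : w * c * w⁻¹ ∈ C := conj_mem_of_inn hG hC.inv hc
      have h := hfix _ hc'
      rw [map_mul, map_mul, map_inv, hfix c hc] at h
      calc c * (w⁻¹ * α w) = w⁻¹ * (w * c * w⁻¹) * α w := by group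
        _ = w⁻¹ * α w * c := by rw [← h]; group
    have h1 := fix_of_coprime hP hco (x := w) (y := w⁻¹ * α w) (by group) (hfix _ hy)
    exact (inv_mul_eq_one.mp h1).symm
  refine MulEquiv.ext fun x => ?_
  have h1 := fix_of_coprime hP hco (x := x) (y := x⁻¹ * α x) (by group)
    (hW _ (subset_closure ⟨⟨α, hα⟩, coprime_mem_pResidual G hα hco, x, rfl⟩))
  exact (inv_mul_eq_one.mp h1).symm

/-- The elements of exponent `p`, or `4` when `p = 2`. -/
def expo (p : ℕ) : ℕ := if p = 2 then 4 else p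

omit [Finite P] in
theorem comm_pow_eq_one {G : Subgroup (MulAut P)} {C : Subgroup P} (hC : IsSmall p G C) {x y : P}
    (hx : x ∈ C) (hy : y ∈ C) : ⁅y, x⁆ ^ p = 1 := by
  obtain ⟨k, hk⟩ : ∃ k, k = ⁅y, x⁆ := ⟨_, rfl⟩
  have hkc : k ∈ centralizer (C : Set P) := hk ▸ (mem_inf.mp (hC.comm y hy x)).2
  have hkx : Commute x k := mem_centralizer_iff.mp hkc x hx
  have h1 : y * x * y⁻¹ = k * x := by rw [hk, commutatorElement_def]; group
  have h2 := congrArg (· ^ p) h1
  simp only [conj_pow] at h2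
  have h3 : y * x ^ p * y⁻¹ = x ^ p :=
    mul_inv_eq_iff_eq_mul.mpr (mem_centralizer_iff.mp (hC.pow x hx) y hy)
  rw [h3, hkx.symm.mul_pow, right_eq_mul] at h2
  exact hk ▸ h2

omit [Finite P] in
theorem expansion {G : Subgroup (MulAut P)} {C : Subgroup P} (hC : IsSmall p G C) {x y : P}
    (hx : x ∈ C) (hy : y ∈ C) (n : ℕ) : (x * y) ^ n = x ^ n * y ^ n * ⁅y, x⁆ ^ n.choose 2 := by
  have hkc := (mem_inf.mp (hC.comm y hy x)).2
  exact mul_pow_of_central (mem_centralizer_iff.mp hkc x hx).symm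
    (mem_centralizer_iff.mp hkc y hy).symm (by rw [commutatorElement_def]; group) n

omit [Finite P] in
theorem dvd_choose_expo : p ∣ (expo p).choose 2 := by
  unfold expo
  split_ifs with h
  · subst h; decide
  · exact (Fact.out : p.Prime).dvd_choose_self (by norm_num)
      (lt_of_le_of_ne (Fact.out : p.Prime).two_le (Ne.symm h))

/-- The subgroup of small exponent in a small subgroup. -/
def omega {G : Subgroup (MulAut P)} {C : Subgroup P} (hC : IsSmall p G C) : Subgroup P where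
  carrier := {x | x ∈ C ∧ x ^ expo p = 1}
  one_mem' := ⟨one_mem _, one_pow _⟩
  mul_mem' := fun {a b} ha hb => ⟨mul_mem ha.1 hb.1, by
    obtain ⟨m, hm⟩ := dvd_choose_expo (p := p)
    rw [expansion hC ha.1 hb.1, ha.2, hb.2, hm, pow_mul, comm_pow_eq_one hC ha.1 hb.1, one_pow,
      one_mul, one_mul]⟩
  inv_mem' := fun {a} ha => ⟨inv_mem ha.1, by rw [inv_pow, ha.2, inv_one]⟩

theorem fix_of_fix_omega (hP : IsPGroup p P) {G : Subgroup (MulAut P)} {C : Subgroup P}
    (hC : IsSmall p G C) {α : MulAut P} (hα : α ∈ G) (hco : (orderOf α).Coprime p)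
    (hfix : ∀ c ∈ omega hC, α c = c) : ∀ c ∈ C, α c = c := by
  suffices h : ∀ (n : ℕ) (c : P), orderOf c ≤ n → c ∈ C → α c = c from
    fun c hc => h _ c le_rfl hc
  intro n
  induction n with
  | zero => exact fun c h _ => absurd (orderOf_pos c) (by omega)
  | succ n ih =>
    intro c hn hc
    by_cases hc1 : c = 1
    · rw [hc1, map_one]
    have hcp : α (c ^ p) = c ^ p := by
      refine ih _ ?_ (C.pow_mem hc p)
      have hdvd : p ∣ orderOf c := by
        obtain ⟨k, hk⟩ : ∃ k, orderOf c = p ^ k := IsPGroup.iff_orderOf.mp hP c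
        rw [hk]
        refine dvd_pow_self p fun h0 => hc1 ?_
        rw [h0, pow_zero] at hk
        exact orderOf_eq_one_iff.mp hk
      rw [orderOf_pow, Nat.gcd_eq_right hdvd]
      have := Nat.div_lt_self (orderOf_pos c) (Fact.out : p.Prime).one_lt
      omega
    obtain ⟨y, hy⟩ : ∃ y, y = c⁻¹ * α c := ⟨_, rfl⟩
    have hyC : y ∈ C := hy ▸ mul_mem (inv_mem hc) (hC.inv α hα c hc)
    have hcy : α c = c * y := by rw [hy]; group
    have h1 : y ^ p * ⁅y, c⁆ ^ p.choose 2 = 1 := by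
      have h := expansion hC hc hyC p
      rw [← hcy, ← map_pow, hcp, mul_assoc] at h
      exact mul_eq_left.mp h.symm
    have hyo : y ∈ omega hC := by
      refine ⟨hyC, ?_⟩
      have hkp := comm_pow_eq_one hC hc hyC
      unfold expo
      split_ifs with h2
      · subst h2
        rw [show Nat.choose 2 2 = 1 from rfl, pow_one] at h1
        rw [show 4 = 2 * 2 from rfl, pow_mul, eq_inv_of_mul_eq_one_left h1, inv_pow, hkp, inv_one]
      · obtain ⟨m, hm⟩ := (Fact.out : p.Prime).dvd_choose_self (k := 2) (by norm_num)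
          (lt_of_le_of_ne (Fact.out : p.Prime).two_le (Ne.symm h2))
        rwa [hm, pow_mul, hkp, one_pow, mul_one] at h1
    rw [hcy, fix_of_coprime hP hco hcy (hfix y hyo), mul_one]

theorem expo_spec {x : P} (h : x ^ expo p = 1) : x ^ p = 1 ∨ (p = 2 ∧ x ^ 4 = 1) := by
  unfold expo at h
  split_ifs at h with h2
  · exact Or.inr ⟨h2, h⟩
  · exact Or.inl h

/-- An automorphism fixing a maximal abelian subgroup of `D` fixes `D`, if it has order prime to
`p`. -/
theorem fix_of_fix_maxAbelian (hP : IsPGroup p P) {D A : Subgroup P} (hAD : A ≤ D)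
    (hnorm : ∀ a ∈ A, ∀ x, x * a * x⁻¹ ∈ A)
    (hcent : ∀ d ∈ D, d ∈ centralizer (A : Set P) → d ∈ A) {α : MulAut P}
    (hinv : ∀ d ∈ D, α d ∈ D) (hco : (orderOf α).Coprime p) (hfix : ∀ a ∈ A, α a = a) {d : P}
    (hd : d ∈ D) : α d = d := by
  have hy : d⁻¹ * α d ∈ A := by
    refine hcent _ (mul_mem (inv_mem hd) (hinv d hd)) (mem_centralizer_iff.mpr fun a ha => ?_)
    have h := hfix _ (hnorm a ha d)
    rw [map_mul, map_mul, map_inv, hfix a ha] at h
    calc a * (d⁻¹ * α d) = d⁻¹ * (d * a * d⁻¹) * α d := by group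
      _ = d⁻¹ * α d * a := by rw [← h]; group
  have h1 := fix_of_coprime hP hco (x := d) (y := d⁻¹ * α d) (by group) (hfix _ hy)
  exact (inv_mul_eq_one.mp h1).symm

/-- A subgroup maximal abelian in `D` contains its centraliser in `D`. -/
theorem mem_of_maximal {D A : Subgroup P} (hAD : A ≤ D) (hA : IsMulCommutative A)
    (hmax : ∀ B : Subgroup P, A ≤ B → B ≤ D → IsMulCommutative B → B = A) {d : P} (hd : d ∈ D)
    (hdc : d ∈ centralizer (A : Set P)) : d ∈ A := by
  have hB : A ⊔ zpowers d ≤ centralizer ((A ⊔ zpowers d : Subgroup P) : Set P) := by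
    have h1 : zpowers d ≤ centralizer (A : Set P) := zpowers_le.mpr hdc
    have h2 : A ≤ centralizer (A : Set P) := le_centralizer_iff_isMulCommutative.mpr hA
    have h3 : zpowers d ≤ centralizer (zpowers d : Set P) :=
      le_centralizer_iff_isMulCommutative.mpr inferInstance
    rw [sup_le_iff, le_centralizer_iff, le_centralizer_iff (H := zpowers d), sup_le_iff, sup_le_iff]
    exact ⟨⟨h2, h1⟩, le_centralizer_iff.mp h1, h3⟩
  have := hmax _ le_sup_left (sup_le hAD (zpowers_le.mpr hd))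
    (le_centralizer_iff_isMulCommutative.mp hB)
  rw [← this]
  exact mem_sup_right (mem_zpowers d)

/-- The whole statement. -/
theorem exists_detecting (hP : IsPGroup p P) (G : Subgroup (MulAut P)) (hG : Cfsg.Inn P ≤ G) :
    ∃ D : Subgroup P, (∀ α ∈ G, D.map α.toMonoidHom = D) ∧ D ≤ displacement p G ∧
      (∀ d ∈ D, d ^ p = 1 ∨ (p = 2 ∧ d ^ 4 = 1)) ∧
      ⁅D, (⊤ : Subgroup P)⁆ ≤ D ⊓ centralizer (D : Set P) ∧
      (∀ α ∈ G, (orderOf α).Coprime p → (∀ d ∈ D, α d = d) → α = 1) ∧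
      ∀ A : Subgroup P, A ≤ D → IsMulCommutative ↥A →
        (∀ B : Subgroup P, A ≤ B → B ≤ D → IsMulCommutative ↥B → B = A) →
        A.Normal ∧ ∀ α ∈ G, (∀ a ∈ A, α a = a) → ∃ k : ℕ, orderOf α = p ^ k := by
  obtain ⟨C, hC, hCW⟩ := exists_small hP G hG
  obtain ⟨D, hD⟩ : ∃ D, D = omega hC := ⟨_, rfl⟩
  have hDC : D ≤ C := fun x hx => (hD ▸ hx : x ∈ omega hC).1
  have hinv : ∀ α ∈ G, ∀ d ∈ D, α d ∈ D := by
    intro α hα d hd
    rw [hD] at hd ⊢
    exact ⟨hC.inv α hα d hd.1, by rw [← map_pow, hd.2, map_one]⟩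
  have hcomm : ∀ d ∈ D, ∀ x, ⁅d, x⁆ ∈ D ⊓ centralizer (D : Set P) := by
    intro d hd x
    refine mem_inf.mpr ⟨?_, centralizer_le (SetLike.coe_subset_coe.mpr hDC)
      (mem_inf.mp (hC.comm d (hDC hd) x)).2⟩
    rw [commutatorElement_def, show d * x * d⁻¹ * x⁻¹ = d * (x * d⁻¹ * x⁻¹) by group]
    exact mul_mem hd (conj_mem_of_inn hG hinv (inv_mem hd))
  have hdet : ∀ α ∈ G, (orderOf α).Coprime p → (∀ d ∈ D, α d = d) → α = 1 := fun α hα hco hfix =>
    eq_one_of_fix hP hG hC hCW hα hco (fix_of_fix_omega hP hC hα hco (hD ▸ hfix))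
  refine ⟨D, fun α hα => ?_, fun x hx => hC.le (hDC hx), fun d hd => expo_spec (hD ▸ hd : d ∈ omega hC).2,
    commutator_le.mpr fun d hd x _ => hcomm d hd x, hdet, fun A hAD hA hmax => ?_⟩
  · refine le_antisymm ?_ fun d hd => ⟨α⁻¹ d, hinv _ (G.inv_mem hα) d hd, by simp⟩
    rintro _ ⟨d, hd, rfl⟩
    exact hinv α hα d hd
  have hcent : ∀ d ∈ D, d ∈ centralizer (A : Set P) → d ∈ A := fun d hd hdc =>
    mem_of_maximal hAD hA hmax hd hdc
  have hnorm : ∀ a ∈ A, ∀ x, x * a * x⁻¹ ∈ A := by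
    intro a ha x
    obtain ⟨h1, h2⟩ := mem_inf.mp (hcomm a (hAD ha) x)
    have h3 : ⁅a, x⁆ ∈ A := hcent _ h1 (centralizer_le (SetLike.coe_subset_coe.mpr hAD) h2)
    have h4 : x * a * x⁻¹ = ⁅a, x⁆⁻¹ * a := by rw [commutatorElement_def]; group
    rw [h4]
    exact mul_mem (inv_mem h3) ha
  refine ⟨⟨fun a ha x => hnorm a ha x⟩, fun α hα hfix => ?_⟩
  haveI : Finite (MulAut P) := Finite.of_injective (fun e : MulAut P => (e : P → P)) DFunLike.coe_injective
  obtain ⟨k, m, hm, hkm⟩ := Nat.exists_eq_pow_mul_and_not_dvd (orderOf_pos α).ne' p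
    (Fact.out : p.Prime).ne_one
  have hco : (orderOf (α ^ p ^ k)).Coprime p := by
    rw [orderOf_pow, hkm, Nat.gcd_eq_right (dvd_mul_right _ _),
      Nat.mul_div_cancel_left _ (pow_pos (Fact.out : p.Prime).pos k), Nat.coprime_comm]
    exact (Fact.out : p.Prime).coprime_iff_not_dvd.mpr hm
  have hfix' : ∀ a ∈ A, (α ^ p ^ k) a = a := by
    intro a ha
    generalize p ^ k = n
    induction n with
    | zero => simp
    | succ n ih => rw [pow_succ', MulAut.mul_apply, ih, hfix a ha]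
  have hone := hdet _ (G.pow_mem hα _) hco fun d hd =>
    fix_of_fix_maxAbelian hP hAD hnorm hcent (fun d hd => hinv _ (G.pow_mem hα _) d hd) hco hfix' hd
  obtain ⟨j, -, hj⟩ := (Nat.dvd_prime_pow (Fact.out : p.Prime)).mp (orderOf_dvd_of_pow_eq_one hone)
  exact ⟨j, hj⟩

end Finite

end Cfsg.Agent.Lib.CriticalAut
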